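import Groth.Prelude.Def_Fitting
import Mathlib.LinearAlgebra.Matrix.Determinant.Basic
import Mathlib.LinearAlgebra.Matrix.SchurComplement
import Mathlib.LinearAlgebra.Multilinear.Basic
import Mathlib.Logic.Equiv.Fin.Basic

/-!
# Fitting ideals through minors of a module of relations
-/

set_option autoImplicit false

noncomputable section

universe u v w

open scoped BigOperators

namespace Groth.Agent.FittLib

variable {R : Type u} [CommRing R] {M : Type v} [AddCommGroup M] [Module R M]

/-- The ideal of `m`-minors of a submodule of a free module. -/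
def I {ι : Type*} (N : Submodule R (ι → R)) (m : ℕ) : Ideal R :=
  Ideal.span {d | ∃ (z : Fin m → (ι → R)) (e : Fin m → ι), (∀ b, z b ∈ N) ∧ d = (Matrix.of fun a b => z b (e a)).det}

lemma det_mem_I {ι : Type*} {N : Submodule R (ι → R)} {m : ℕ} (z : Fin m → (ι → R)) (e : Fin m → ι)
    (hz : ∀ b, z b ∈ N) : (Matrix.of fun a b => z b (e a)).det ∈ I N m :=
  Ideal.subset_span ⟨z, e, hz, rfl⟩

lemma I_zero {ι : Type*} (N : Submodule R (ι → R)) : I N 0 = ⊤ := by
  rw [Ideal.eq_top_iff_one]
  simpa using det_mem_I (N := N) (fun b : Fin 0 => b.elim0) (fun a : Fin 0 => a.elim0) (fun b => b.elim0)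

lemma I_mono {ι : Type*} {N N' : Submodule R (ι → R)} (h : N ≤ N') (m : ℕ) : I N m ≤ I N' m :=
  Ideal.span_mono fun _ ⟨z, e, hz, hd⟩ => ⟨z, e, fun b => h (hz b), hd⟩

/-- Determinants with `m` columns in `N` lie in the `m`-minors. -/
lemma det_mem_I_of {ι : Type*} (N : Submodule R (ι → R)) (m : ℕ) : ∀ (k : ℕ) (z : Fin (m + k) → (ι → R))
    (e : Fin (m + k) → ι), (∀ b : Fin (m + k), (b : ℕ) < m → z b ∈ N) →
      (Matrix.of fun a b => z b (e a)).det ∈ I N m
  | 0, z, e, hz => det_mem_I z e fun b => hz b b.2
  | k + 1, z, e, hz => by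
    show (Matrix.of fun a b : Fin (m + k + 1) => z b (e a)).det ∈ I N m
    rw [Matrix.det_succ_column _ (Fin.last (m + k))]
    refine Submodule.sum_mem _ fun i _ => Ideal.mul_mem_left _ _ ?_
    rw [Fin.succAbove_last]
    exact det_mem_I_of N m k (fun b => z b.castSucc) (fun a => e (Fin.succAbove i a))
      fun b hb => hz _ (by simpa using hb)

lemma I_antitone {ι : Type*} (N : Submodule R (ι → R)) {m m' : ℕ} (h : m ≤ m') : I N m' ≤ I N m := by
  obtain ⟨k, rfl⟩ := Nat.exists_eq_add_of_le h
  refine Ideal.span_le.2 ?_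
  rintro _ ⟨z, e, hz, rfl⟩
  exact det_mem_I_of N m k z e fun b _ => hz b

/-- Minors only see generators. -/
lemma I_span_le {ι : Type*} (S : Set (ι → R)) (m : ℕ) (J : Ideal R)
    (h : ∀ (z : Fin m → (ι → R)) (e : Fin m → ι), (∀ b, z b ∈ S) → (Matrix.of fun a b => z b (e a)).det ∈ J) :
    I (Submodule.span R S) m ≤ J := by
  classical
  refine Ideal.span_le.2 ?_
  rintro _ ⟨z, e, hz, rfl⟩
  suffices h' : ∀ (s : Finset (Fin m)) (w : Fin m → (ι → R)), (∀ b ∈ s, w b ∈ Submodule.span R S) →
      (∀ b, b ∉ s → w b ∈ S) → (Matrix.of fun a b => w b (e a)).det ∈ J from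
    h' Finset.univ z (fun b _ => hz b) (by simp)
  intro s
  induction s using Finset.induction_on with
  | empty => exact fun w _ hw => h w e fun b => hw b (Finset.notMem_empty b)
  | @insert c s hc ih =>
    intro w hw hw'
    let col : (ι → R) → Matrix (Fin m) (Fin m) R := fun v => Matrix.of fun a b => Function.update w c v b (e a)
    have hcol : ∀ v, col v = Matrix.updateCol (Matrix.of fun a b => w b (e a)) c (fun a => v (e a)) := fun v => by
      ext a b
      by_cases hb : b = c <;> simp [col, Matrix.updateCol_apply, hb]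
    suffices hh : ∀ v ∈ Submodule.span R S, (col v).det ∈ J by
      simpa [col] using hh (w c) (hw c (Finset.mem_insert_self c s))
    intro v hv
    induction hv using Submodule.span_induction with
    | mem v hv =>
      refine ih (Function.update w c v) (fun b hb => ?_) (fun b hb => ?_)
      · rw [Function.update_of_ne (by rintro rfl; exact hc hb)]; exact hw b (Finset.mem_insert_of_mem hb)
      · rcases eq_or_ne b c with rfl | hbc
        · rwa [Function.update_self]
        · rw [Function.update_of_ne hbc]; exact hw' b (by simp [hb, hbc])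
    | zero =>
      rw [hcol]
      have h0 : (Matrix.updateCol (Matrix.of fun a b => w b (e a)) c fun a => (0 : ι → R) (e a)).det = 0 :=
        Matrix.det_eq_zero_of_column_eq_zero c fun a => by simp
      rw [h0]; exact zero_mem _
    | add x y _ _ hx hy =>
      rw [hcol] at hx hy ⊢
      have : (fun a => (x + y) (e a)) = (fun a => x (e a)) + fun a => y (e a) := rfl
      rw [this, Matrix.det_updateCol_add]
      exact add_mem hx hy
    | smul r x _ hx =>
      rw [hcol] at hx ⊢
      have : (fun a => (r • x) (e a)) = r • fun a => x (e a) := rfl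
      rw [this, Matrix.det_updateCol_smul]
      exact Ideal.mul_mem_left _ _ hx

/-- Reindexing the coordinates. -/
lemma I_comap_equiv {ι κ : Type*} (e : ι ≃ κ) (N : Submodule R (κ → R)) (m : ℕ) :
    I (N.map (LinearMap.funLeft R R e)) m = I N m := by
  refine le_antisymm (Ideal.span_le.2 ?_) (Ideal.span_le.2 ?_)
  · rintro _ ⟨z, f, hz, rfl⟩
    choose w hw hwz using hz
    have : (Matrix.of fun a b => z b (f a)) = Matrix.of fun a b => w b (e (f a)) := by
      ext a b; rw [Matrix.of_apply, Matrix.of_apply, ← hwz b]; rfl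
    rw [this]
    exact det_mem_I w _ hw
  · rintro _ ⟨z, f, hz, rfl⟩
    refine Ideal.subset_span ⟨fun b => LinearMap.funLeft R R e (z b), fun a => e.symm (f a),
      fun b => ⟨z b, hz b, rfl⟩, ?_⟩
    congr 1
    ext a b
    simp [LinearMap.funLeft_apply]

/-! ### Relations of a tuple -/

section rel

variable {ι : Type*} [Fintype ι] (x : ι → M)

/-- The relations of a tuple. -/
def rel : Submodule R (ι → R) := LinearMap.ker (Fintype.linearCombination R x)

lemma mem_rel {w : ι → R} : w ∈ rel x ↔ ∑ i, w i • x i = 0 := by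
  simp [rel, LinearMap.mem_ker, Fintype.linearCombination_apply]

variable (R) in
/-- The candidate Fitting ideal computed from a tuple. -/
def F (r : ℕ) : Ideal R := I (rel (R := R) x) (Fintype.card ι - r)

lemma rel_comp_equiv {κ : Type*} [Fintype κ] (e : κ ≃ ι) :
    rel (R := R) (x ∘ e) = (rel x).map (LinearMap.funLeft R R e) := by
  ext w
  rw [mem_rel, Submodule.mem_map]
  constructor
  · intro h
    refine ⟨w ∘ e.symm, (mem_rel x).2 ?_, by ext; simp⟩
    rw [← h, ← e.sum_comp]
    simp
  · rintro ⟨v, hv, rfl⟩
    rw [mem_rel] at hv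
    rw [← hv, ← e.sum_comp (fun i => v i • x i)]
    rfl

lemma F_comp_equiv {κ : Type*} [Fintype κ] (e : κ ≃ ι) (r : ℕ) : F R (x ∘ e) r = F R x r := by
  rw [F, F, rel_comp_equiv, I_comap_equiv, Fintype.card_congr e]

lemma F_mono {r r' : ℕ} (h : r ≤ r') : F R x r ≤ F R x r' := I_antitone _ (by omega)

lemma F_eq_top {r : ℕ} (h : Fintype.card ι ≤ r) : F R x r = ⊤ := by
  rw [F, show Fintype.card ι - r = 0 by omega, I_zero]

/-- A redundant generator changes nothing. -/
theorem F_option (c : ι → R) (y : M) (hy : ∑ i, c i • x i = y) (r : ℕ) :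
    F R (fun o : Option ι => o.elim y x) r = F R x r := by
  classical
  rcases le_or_gt (Fintype.card ι + 1) r with hr | hr
  · rw [F_eq_top _ (by simpa using hr), F_eq_top _ (by omega)]
  rw [F, F, Fintype.card_option, show Fintype.card ι + 1 - r = (Fintype.card ι - r) + 1 by omega]
  generalize Fintype.card ι - r = m
  let em : (ι → R) → Option ι → R := fun z o => o.elim 0 z
  let v : Option ι → R := fun o => o.elim (-1) c
  have hvr : v ∈ rel (R := R) (fun o : Option ι => o.elim y x) := by
    rw [mem_rel, Fintype.sum_option]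
    simp [v, hy]
  have hemr : ∀ z ∈ rel (R := R) x, em z ∈ rel (R := R) (fun o : Option ι => o.elim y x) := fun z hz => by
    rw [mem_rel] at hz ⊢
    rw [Fintype.sum_option]
    simp [em, hz]
  refine le_antisymm ?_ (Ideal.span_le.2 ?_)
  · -- generators of the relations
    have hspan : rel (R := R) (fun o : Option ι => o.elim y x) ≤ Submodule.span R (insert v (em '' rel (R := R) x)) := by
      intro w hw
      let z : ι → R := fun i => w (some i) + w none * c i
      have hz : z ∈ rel (R := R) x := by
        rw [mem_rel] at hw ⊢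
        rw [Fintype.sum_option] at hw
        simp only [z, add_smul, mul_smul, Finset.sum_add_distrib, ← Finset.smul_sum, hy]
        simpa [add_comm] using hw
      have hwz : w = em z + (-w none) • v := by
        ext o; cases o <;> simp [em, v, z]
      rw [hwz]
      exact add_mem (Submodule.subset_span (Or.inr ⟨z, hz, rfl⟩))
        (Submodule.smul_mem _ _ (Submodule.subset_span (Or.inl rfl)))
    refine (I_mono hspan _).trans (I_span_le _ _ _ fun W e hW => ?_)
    -- at most one column is `v`
    by_cases h2 : ∃ b b', b ≠ b' ∧ W b = v ∧ W b' = v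
    · obtain ⟨b, b', hne, hb, hb'⟩ := h2
      rw [Matrix.det_zero_of_column_eq hne (fun a => by simp [hb, hb'])]
      exact zero_mem _
    obtain ⟨j, hj⟩ : ∃ j : Fin (m + 1), ∀ b, b ≠ j → ∃ z ∈ rel (R := R) x, W b = em z := by
      by_cases h1 : ∃ j, W j = v
      · obtain ⟨j, hj⟩ := h1
        refine ⟨j, fun b hb => ?_⟩
        rcases hW b with hWb | ⟨z, hz, hWb⟩
        · exact absurd ⟨b, j, hb, hWb, hj⟩ h2
        · exact ⟨z, hz, hWb.symm⟩
      · refine ⟨0, fun b _ => ?_⟩
        rcases hW b with hWb | ⟨z, hz, hWb⟩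
        · exact absurd ⟨b, hWb⟩ h1
        · exact ⟨z, hz, hWb.symm⟩
    rw [Matrix.det_succ_column _ j]
    refine Submodule.sum_mem _ fun i _ => Ideal.mul_mem_left _ _ ?_
    choose z hz hWz using fun b : Fin m => hj (Fin.succAbove j b) (Fin.succAbove_ne j b)
    by_cases hn : ∃ a : Fin m, e (Fin.succAbove i a) = none
    · obtain ⟨a, ha⟩ := hn
      rw [Matrix.det_eq_zero_of_row_eq_zero a fun b => by simp [hWz, em, ha]]
      exact zero_mem _
    push Not at hn
    choose f hf using fun a : Fin m => Option.ne_none_iff_exists'.1 (hn a)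
    have : (Matrix.of fun a b => W b (e a)).submatrix (Fin.succAbove i) (Fin.succAbove j) =
        Matrix.of fun a b => z b (f a) := by
      ext a b; simp [hWz, em, hf]
    rw [this]
    exact det_mem_I z f hz
  · rintro _ ⟨z, e, hz, rfl⟩
    have hd := det_mem_I (N := rel (R := R) (fun o : Option ι => o.elim y x))
      (Fin.cons v (fun b => em (z b)) : Fin (m + 1) → Option ι → R) (Fin.cons none (fun a => some (e a)))
      (Fin.cases (by simpa using hvr) fun b => by simpa using hemr _ (hz b))
    rw [Matrix.det_succ_row_zero, Fin.sum_univ_succ] at hd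
    simp only [Matrix.of_apply, Fin.cons_zero, Fin.cons_succ, em, v, Option.elim_none, mul_zero, zero_mul,
      Finset.sum_const_zero, add_zero, Fin.val_zero, pow_zero, one_mul, neg_mul, neg_mem_iff] at hd
    refine (congrArg (· ∈ _) (congrArg Matrix.det ?_)).mp hd
    ext a b
    simp

lemma F_sum {m : ℕ} (y : Fin m → M) (hy : ∀ k, y k ∈ Submodule.span R (Set.range x)) (r : ℕ) :
    F R (Sum.elim x y) r = F R x r := by
  induction m with
  | zero =>
    rw [← F_comp_equiv x (Equiv.sumEmpty ι (Fin 0))]
    congr 1
    ext o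
    rcases o with i | k
    · rfl
    · exact k.elim0
  | succ m ih =>
    have hy' : y (Fin.last m) ∈ Submodule.span R (Set.range (Sum.elim x (y ∘ Fin.castSucc))) :=
      Submodule.span_mono (s := Set.range x) (by rintro _ ⟨i, rfl⟩; exact ⟨Sum.inl i, rfl⟩) (hy _)
    obtain ⟨c, hc⟩ := (Submodule.mem_span_range_iff_exists_fun R).1 hy'
    rw [← ih (y ∘ Fin.castSucc) (fun k => hy _), ← F_option _ c _ hc r]
    let e : Option (ι ⊕ Fin m) ≃ ι ⊕ Fin (m + 1) :=
      { toFun := fun o => o.elim (Sum.inr (Fin.last m)) (Sum.map id Fin.castSucc)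
        invFun := Sum.elim (fun i => some (Sum.inl i)) (Fin.lastCases none fun k => some (Sum.inr k))
        left_inv := fun o => by rcases o with _ | i | k <;> simp
        right_inv := fun o => by
          rcases o with i | k
          · simp
          · induction k using Fin.lastCases <;> simp }
    rw [← F_comp_equiv (Sum.elim x y) e]
    congr 1
    funext o
    rcases o with _ | i | k <;> simp [e]

end rel

/-- Independence of the generating tuple. -/
theorem F_eq_of_span {ι κ : Type*} [Fintype ι] [Fintype κ] (x : ι → M) (y : κ → M)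
    (hx : Submodule.span R (Set.range x) = ⊤) (hy : Submodule.span R (Set.range y) = ⊤) (r : ℕ) :
    F R x r = F R y r := by
  let ex := (Fintype.equivFin ι).symm
  let ey := (Fintype.equivFin κ).symm
  have h1 := F_sum (R := R) x (y ∘ ey) (fun k => hx ▸ Submodule.mem_top) r
  have h2 := F_sum (R := R) y (x ∘ ex) (fun k => hy ▸ Submodule.mem_top) r
  rw [← h1, ← h2, ← F_comp_equiv (Sum.elim y (x ∘ ex))
    ((Equiv.sumCongr ex.symm ey).trans (Equiv.sumComm _ _))]
  congr 1
  funext o
  rcases o with i | k <;> simp

/-- The frozen Fitting ideal, through minors. -/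
theorem ideal_eq_F {ι : Type*} [Fintype ι] (x : ι → M) (hx : Submodule.span R (Set.range x) = ⊤) (r : ℕ) :
    Fitt.ideal R M r = F R x r := by
  classical
  refine le_antisymm (Ideal.span_le.2 ?_) ?_
  · rintro _ ⟨n, y, a, hy, hrow, rfl⟩
    rw [F_eq_of_span x y hx hy, F, Fintype.card_fin]
    obtain ⟨k, hk⟩ := Nat.exists_eq_add_of_le (Nat.sub_le n r)
    have := det_mem_I_of (rel (R := R) y) (n - r) k (fun b => a (Fin.cast hk.symm b)) (fun i => Fin.cast hk.symm i)
      fun b hb => (mem_rel y).2 (hrow _ (by simpa using hb))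
    convert this using 1
    rw [← Matrix.det_transpose, ← Matrix.det_reindex_self (finCongr hk) a.transpose]
    rfl
  · rw [F_eq_of_span x (x ∘ (Fintype.equivFin ι).symm) hx
      (by rwa [Set.range_comp, Equiv.range_eq_univ, Set.image_univ]), F, Fintype.card_fin]
    have hyspan : Submodule.span R (Set.range (x ∘ (Fintype.equivFin ι).symm)) = ⊤ := by
      rwa [Set.range_comp, Equiv.range_eq_univ, Set.image_univ]
    generalize x ∘ (Fintype.equivFin ι).symm = y at hyspan ⊢
    generalize Fintype.card ι = n at y hyspan ⊢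
    refine Ideal.span_le.2 ?_
    rintro _ ⟨z, e, hz, rfl⟩
    by_cases he : Function.Injective e
    swap
    · rw [Function.not_injective_iff] at he
      obtain ⟨a, a', haa, hne⟩ := he
      rw [Matrix.det_zero_of_row_eq hne (funext fun b => by simp [haa])]
      exact zero_mem _
    -- complete the columns
    let C := {i : Fin n // i ∉ Set.range e}
    let π : Fin (n - r) ⊕ C ≃ Fin n := (Equiv.sumCongr (Equiv.ofInjective e he) (Equiv.refl _)).trans
      (Equiv.sumCompl (· ∈ Set.range e))
    have hπl : ∀ b, π (Sum.inl b) = e b := fun b => rfl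
    have hπr : ∀ c : C, π (Sum.inr c) = c.1 := fun c => rfl
    have hC : Fintype.card C = n - (n - r) := by
      have := Fintype.card_congr π
      simp only [Fintype.card_sum, Fintype.card_fin] at this
      omega
    let σ : Fin (n - r) ⊕ C ≃ Fin n := (Equiv.sumCongr (Equiv.refl _) (Fintype.equivFinOfCardEq hC)).trans
      (finSumFinEquiv.trans (finCongr (by omega)))
    let a : Matrix (Fin n) (Fin n) R := Matrix.of fun i =>
      Sum.elim z (fun c : C => Pi.single c.1 1) (σ.symm i)
    have hmem : a.det ∈ Fitt.ideal R M r := by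
      refine Ideal.subset_span ⟨n, y, a, hyspan, fun i hi => ?_, rfl⟩
      obtain ⟨s, rfl⟩ := σ.surjective i
      rcases s with b | c
      · simpa [a] using (mem_rel y).1 (hz b)
      · simp [σ] at hi
    have hdet : (a.submatrix σ π).det = (Matrix.of fun i j => z j (e i)).det := by
      have hblock : a.submatrix σ π =
          Matrix.fromBlocks (Matrix.of fun i j => z j (e i)).transpose
            (Matrix.of fun b (c : C) => z b c.1) 0 1 := by
        ext s t
        rcases s with b | c <;> rcases t with b' | c'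
        · simp [a, hπl]
        · simp [a, hπr]
        · have hne : c.1 ≠ e b' := fun h => c.2 ⟨b', h.symm⟩
          simp [a, hπl, Pi.single_eq_of_ne hne.symm]
        · simp only [a, Matrix.submatrix_apply, Matrix.of_apply, hπr, Equiv.symm_apply_apply, Sum.elim_inr,
            Matrix.fromBlocks_apply₂₂, Matrix.one_apply, Pi.single_apply]
          exact if_congr (eq_comm.trans Subtype.ext_iff.symm) rfl rfl
      rw [hblock, Matrix.det_fromBlocks_zero₂₁, Matrix.det_one, mul_one, Matrix.det_transpose]
    have hperm : (a.submatrix σ π).det = Equiv.Perm.sign (π.trans σ.symm) * a.det := by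
      have : a.submatrix σ π = ((a.submatrix σ σ)).submatrix id (π.trans σ.symm) := by
        ext s t; simp
      rw [this, Matrix.det_permute', Matrix.det_submatrix_equiv_self]
    rw [← hdet, hperm]
    exact Ideal.mul_mem_left _ _ hmem

end Groth.Agent.FittLib
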