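import Groth.Agent.FittLib.Props
import Mathlib.RingTheory.LocalRing.ResidueField.Ideal
import Mathlib.RingTheory.Localization.BaseChange
import Mathlib.RingTheory.Localization.AtPrime.Basic
import Mathlib.LinearAlgebra.Dimension.Finrank
import Mathlib.LinearAlgebra.FreeModule.Basic
import Mathlib.RingTheory.Localization.Away.Basic
import Mathlib.LinearAlgebra.Matrix.ToLinearEquiv

/-!
# Fitting ideals and local numbers of generators
-/

set_option autoImplicit false

noncomputable section

universe u v

open scoped TensorProduct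

namespace Groth.Agent.FittLib

variable {R : Type u} [CommRing R] {M : Type v} [AddCommGroup M] [Module R M]

lemma exists_pad {n k : ℕ} (h : n ≤ k) (x : Fin n → M) (hx : Submodule.span R (Set.range x) = ⊤) :
    ∃ g : Fin k → M, Submodule.span R (Set.range g) = ⊤ := by
  refine ⟨fun i => if hi : (i : ℕ) < n then x ⟨i, hi⟩ else 0, eq_top_iff.2 (hx ▸ Submodule.span_mono ?_)⟩
  rintro _ ⟨i, rfl⟩
  exact ⟨⟨i, i.2.trans_le h⟩, by simp⟩

lemma F_of_rel_eq_bot {ι : Type*} [Fintype ι] (x : ι → M) (h : rel (R := R) x = ⊥) {k : ℕ} (hk : k < Fintype.card ι) :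
    F R x k = ⊥ := by
  rw [F, eq_bot_iff, h]
  refine Ideal.span_le.2 ?_
  rintro _ ⟨z, e, hz, rfl⟩
  rw [SetLike.mem_coe, Ideal.mem_bot]
  exact Matrix.det_eq_zero_of_column_eq_zero ⟨0, by omega⟩ fun a => by
    rw [Matrix.of_apply, (Submodule.mem_bot R).1 (hz _)]; rfl

lemma rel_eq_bot {ι : Type*} [Fintype ι] (x : ι → M) (h : LinearIndependent R x) : rel (R := R) x = ⊥ :=
  eq_bot_iff.2 fun w hw => (Submodule.mem_bot R).2 (funext (Fintype.linearIndependent_iff.1 h w ((mem_rel x).1 hw)))

/-- Over a local ring, a unit Fitting ideal bounds the number of generators. -/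
theorem exists_generators_of_eq_top [IsLocalRing R] [Module.Finite R M] {k : ℕ}
    (hk : Fitt.ideal R M k = ⊤) : ∃ g : Fin k → M, Submodule.span R (Set.range g) = ⊤ := by
  classical
  obtain ⟨n, x, hx⟩ := Module.Finite.exists_fin (R := R) (M := M)
  induction n with
  | zero => exact exists_pad k.zero_le x hx
  | succ n ih =>
    rcases Nat.lt_or_ge k (n + 1) with hn | hn
    swap
    · exact exists_pad hn x hx
    -- some relation has a unit coefficient
    obtain ⟨w, hw, j, hj⟩ : ∃ w ∈ rel (R := R) x, ∃ j, IsUnit (w j) := by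
      by_contra! hcon
      refine (IsLocalRing.maximalIdeal.isMaximal R).ne_top (eq_top_iff.2 ?_)
      rw [← hk, ideal_eq_F x hx, F]
      refine (I_antitone _ (show 1 ≤ Fintype.card (Fin (n + 1)) - k by simp; omega)).trans (Ideal.span_le.2 ?_)
      rintro _ ⟨z, e, hz, rfl⟩
      rw [SetLike.mem_coe, Matrix.det_fin_one]
      exact hcon _ (hz _) _
    refine ih (x ∘ j.succAbove) (eq_top_iff.2 (hx ▸ Submodule.span_le.2 ?_))
    rintro _ ⟨i, rfl⟩
    rcases Fin.eq_self_or_eq_succAbove j i with rfl | ⟨a, rfl⟩
    swap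
    · exact Submodule.subset_span ⟨a, rfl⟩
    have h0 := (mem_rel x).1 hw
    rw [Fin.sum_univ_succAbove _ i, add_eq_zero_iff_eq_neg] at h0
    have : x i = (↑hj.unit⁻¹ : R) • (w i • x i) := by rw [smul_smul, IsUnit.val_inv_mul, one_smul]
    rw [SetLike.mem_coe, this, h0]
    exact Submodule.smul_mem _ _ (neg_mem (Submodule.sum_mem _ fun a _ =>
      Submodule.smul_mem _ _ (Submodule.subset_span ⟨a, rfl⟩)))

theorem eq_top_of_field {K : Type*} [Field K] {V : Type*} [AddCommGroup V] [Module K V] [Module.Finite K V] (k : ℕ) :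
    Fitt.ideal K V k = ⊤ ↔ Module.finrank K V ≤ k := by
  let b := Module.finBasis K V
  rw [ideal_eq_F b b.span_eq]
  constructor
  · intro h
    by_contra hk
    rw [F_of_rel_eq_bot _ (rel_eq_bot _ b.linearIndependent) (by simpa using not_le.1 hk)] at h
    exact bot_ne_top h
  · exact fun h => F_eq_top _ (by simpa using h)

theorem ideal_localized (S : Submonoid R) [Module.Finite R M] (k : ℕ) :
    Fitt.ideal (Localization S) (LocalizedModule S M) k = (Fitt.ideal R M k).map (algebraMap R (Localization S)) := by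
  rw [← baseChange, ideal_congr (LocalizedModule.equivTensorProduct S M)]

/-- Generators of a localization put an element of the monoid in the Fitting ideal. -/
theorem exists_mem_of_localized_generators (S : Submonoid R) [Module.Finite R M] {k : ℕ}
    (g : Fin k → LocalizedModule S M) (hg : Submodule.span (Localization S) (Set.range g) = ⊤) :
    ∃ s ∈ S, s ∈ Fitt.ideal R M k := by
  have h := ideal_localized (M := M) S k
  rw [eq_top_of_le g hg (by simp)] at h
  by_contra hc
  refine (IsLocalization.map_algebraMap_ne_top_iff_disjoint S (Localization S) _).2 (Set.disjoint_left.2 fun s hs hsI => hc ⟨s, hs, hsI⟩) h.symm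

/-- Generators on a neighbourhood. -/
theorem exists_away_generators [Module.Finite R M] {k : ℕ} (p : Ideal R) [p.IsPrime]
    (hp : ¬ Fitt.ideal R M k ≤ p) :
    ∃ f : R, f ∉ p ∧ ∃ g : Fin k → LocalizedModule (Submonoid.powers f) M,
      Submodule.span (Localization.Away f) (Set.range g) = ⊤ := by
  classical
  have hk : Fitt.ideal (Localization.AtPrime p) (LocalizedModule p.primeCompl M) k = ⊤ := by
    obtain ⟨s, hs, hsp⟩ := SetLike.not_le_iff_exists.1 hp
    exact (ideal_localized p.primeCompl k).trans (Ideal.eq_top_of_isUnit_mem _ (Ideal.mem_map_of_mem _ hs)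
      (IsLocalization.map_units _ (⟨s, hsp⟩ : p.primeCompl)))
  obtain ⟨g, hg⟩ := exists_generators_of_eq_top hk
  choose ms hms using fun i => IsLocalizedModule.surj p.primeCompl (LocalizedModule.mkLinearMap p.primeCompl M) (g i)
  let N := Submodule.span R (Set.range fun i => (ms i).1)
  -- each element is carried into `N` by something outside `p`
  have hN : ∀ m : M, ∃ t ∉ p, t • m ∈ N := fun m => by
    have hm : LocalizedModule.mkLinearMap p.primeCompl M m ∈ Submodule.localized p.primeCompl N := by
      have : Submodule.localized p.primeCompl N = ⊤ := eq_top_iff.2 (hg ▸ Submodule.span_le.2 (by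
        rintro _ ⟨i, rfl⟩
        refine ⟨(ms i).1, Submodule.subset_span ⟨i, rfl⟩, (ms i).2, ?_⟩
        exact IsLocalizedModule.mk'_eq_iff.2 (hms i).symm))
      rw [this]; exact Submodule.mem_top
    obtain ⟨a, ha, t, hat⟩ := hm
    rw [IsLocalizedModule.mk'_eq_iff] at hat
    obtain ⟨c, hc⟩ := (IsLocalizedModule.eq_iff_exists p.primeCompl (LocalizedModule.mkLinearMap p.primeCompl M)
      (x₁ := a) (x₂ := t.1 • m)).1 (hat.trans (map_smul (LocalizedModule.mkLinearMap p.primeCompl M) _ _).symm)
    refine ⟨c.1 * t.1, (c * t).2, ?_⟩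
    rw [mul_smul]
    exact (show c.1 • t.1 • m = c.1 • a from hc.symm) ▸ N.smul_mem _ ha
  obtain ⟨n, x, hx⟩ := Module.Finite.exists_fin (R := R) (M := M)
  choose t ht htx using fun i => hN (x i)
  refine ⟨∏ i, t i, fun h => ?_, fun i => LocalizedModule.mkLinearMap _ M (ms i).1, eq_top_iff.2 ?_⟩
  · obtain ⟨i, -, hi⟩ := (Ideal.IsPrime.prod_mem_iff).1 h
    exact ht i hi
  set f := ∏ i, t i
  let P := Submodule.span (Localization.Away f)
    (Set.range fun i => LocalizedModule.mkLinearMap (Submonoid.powers f) M (ms i).1)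
  have hf : ∀ m : M, f • m ∈ N := fun m => by
    obtain ⟨c, rfl⟩ := (Submodule.mem_span_range_iff_exists_fun R).1 (hx ▸ Submodule.mem_top : m ∈ _)
    rw [Finset.smul_sum]
    refine Submodule.sum_mem _ fun i _ => ?_
    rw [smul_comm]
    refine N.smul_mem _ ?_
    rw [show f • x i = (∏ j ∈ Finset.univ.erase i, t j) • t i • x i by
      rw [smul_smul, Finset.prod_erase_mul _ _ (Finset.mem_univ i)]]
    exact N.smul_mem _ (htx i)
  have hNP : ∀ m ∈ N, LocalizedModule.mkLinearMap (Submonoid.powers f) M m ∈ P.restrictScalars R := by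
    show N ≤ (P.restrictScalars R).comap (LocalizedModule.mkLinearMap (Submonoid.powers f) M)
    refine Submodule.span_le.2 ?_
    rintro _ ⟨i, rfl⟩
    exact Submodule.subset_span ⟨i, rfl⟩
  intro z _
  refine LocalizedModule.induction_on (fun m s => ?_) z
  show _ ∈ P
  have : LocalizedModule.mk m s =
      (IsLocalization.mk' (Localization.Away f) 1 (s * ⟨f, Submonoid.mem_powers f⟩)) •
        LocalizedModule.mkLinearMap (Submonoid.powers f) M (f • m) := by
    rw [← Localization.mk_eq_mk', LocalizedModule.mkLinearMap_apply, LocalizedModule.mk_smul_mk, one_smul, mul_one]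
    exact LocalizedModule.mk_eq.2 ⟨1, by simp [Submonoid.smul_def, smul_smul, mul_comm]⟩
  rw [this]
  exact Submodule.smul_mem _ _ (hNP _ (hf m))

/-- Cramer: a minor generating the Fitting ideal cuts the generators down modulo torsion. -/
theorem quotient_generators [IsLocalRing R] [Module.Finite R M] {k : ℕ} {f : R}
    (hf : Fitt.ideal R M k = Ideal.span {f}) :
    ∃ g : Fin k → M ⧸ LinearMap.ker (f • (LinearMap.id : M →ₗ[R] M)), Submodule.span R (Set.range g) = ⊤ := by
  classical
  rcases eq_or_ne f 0 with rfl | hf0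
  · refine ⟨0, eq_top_iff.2 fun q _ => ?_⟩
    obtain ⟨m, rfl⟩ := Submodule.Quotient.mk_surjective _ q
    rw [(Submodule.Quotient.mk_eq_zero _).2 (by simp)]
    exact zero_mem _
  set K := LinearMap.ker (f • (LinearMap.id : M →ₗ[R] M))
  obtain ⟨n, x, hx⟩ := Module.Finite.exists_fin (R := R) (M := M)
  have hmk : Submodule.span R (Set.range (K.mkQ ∘ x)) = ⊤ := by
    rw [Set.range_comp, Submodule.span_image, hx, Submodule.map_top, K.range_mkQ]
  rcases le_or_gt n k with hn | hn
  · exact exists_pad hn _ hmk
  rw [ideal_eq_F x hx, F, Fintype.card_fin] at hf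
  -- a minor generates
  obtain ⟨z, e, hz, u, hu⟩ : ∃ (z : Fin (n - k) → (Fin n → R)) (e : Fin (n - k) → Fin n),
      (∀ b, z b ∈ rel (R := R) x) ∧ ∃ u : Rˣ, (Matrix.of fun a b => z b (e a)).det = f * u := by
    by_contra! hcon
    have hle : I (rel (R := R) x) (n - k) ≤ Ideal.span {f} * IsLocalRing.maximalIdeal R := by
      refine Ideal.span_le.2 ?_
      rintro _ ⟨z, e, hz, rfl⟩
      obtain ⟨d, hd⟩ := Ideal.mem_span_singleton.1 (hf ▸ det_mem_I z e hz)
      rw [SetLike.mem_coe, hd]
      exact Ideal.mul_mem_mul (Ideal.mem_span_singleton_self f) fun hdu => hcon z e hz hdu.unit hd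
    rw [hf] at hle
    obtain ⟨c, hc, hfc⟩ := Ideal.mem_span_singleton_mul.1 (hle (Ideal.mem_span_singleton_self f))
    have hu : IsUnit (1 - c) := (IsLocalRing.isUnit_or_isUnit_one_sub_self c).resolve_left
      ((IsLocalRing.mem_maximalIdeal c).1 hc)
    exact hf0 (hu.mul_left_eq_zero.1 (by rw [mul_sub, mul_one, hfc, sub_self]))
  have he : Function.Injective e := fun a a' h => by
    by_contra hne
    rw [Matrix.det_zero_of_row_eq hne (funext fun b => by simp [h])] at hu
    exact hf0 (u.mul_left_eq_zero.1 hu.symm)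
  set A : Matrix (Fin (n - k)) (Fin (n - k)) R := Matrix.of fun a b => z b (e a)
  -- the span of the other generators
  let C := {i : Fin n // i ∉ Set.range e}
  have hC : Fintype.card C = k := by
    rw [Fintype.card_subtype_compl, Fintype.card_fin, Set.card_range_of_injective he, Fintype.card_fin]
    omega
  refine ⟨fun i => K.mkQ (x ((Fintype.equivFinOfCardEq hC).symm i).1), eq_top_iff.2 (hmk ▸ Submodule.span_le.2 ?_)⟩
  rintro _ ⟨i, rfl⟩
  by_cases hi : i ∈ Set.range e
  swap
  · exact Submodule.subset_span ⟨Fintype.equivFinOfCardEq hC ⟨i, hi⟩, by simp⟩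
  obtain ⟨a', rfl⟩ := hi
  -- the Cramer relation
  let w : Fin n → R := ∑ b, A.adjugate b a' • z b
  have hw : w ∈ rel (R := R) x := Submodule.sum_mem _ fun b _ => Submodule.smul_mem _ _ (hz b)
  have hwdet : ∀ i, w i = (Matrix.updateRow A a' fun b => z b i).det := fun i => by
    rw [← Matrix.cramer_transpose_apply, Matrix.cramer_eq_adjugate_mulVec, ← Matrix.adjugate_transpose]
    simp [w, Matrix.mulVec, dotProduct]
  have hwf : ∀ i, f ∣ w i := fun i => by
    rw [← Ideal.mem_span_singleton, ← hf, hwdet]
    have := det_mem_I z (Function.update e a' i) hz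
    convert this using 2
    ext a b
    rcases eq_or_ne a a' with rfl | hne <;> simp_all [A]
  choose v hv using hwf
  have hself : ∀ a, w (e a) = if a = a' then f * u else 0 := fun a => by
    split_ifs with h
    · rw [hwdet, h, show (fun b => z b (e a')) = A a' from rfl, Matrix.updateRow_eq_self, hu]
    · rw [hwdet]
      exact Matrix.det_zero_of_row_eq h (funext fun b => by simp [Matrix.updateRow_apply, h, A])
  have hK : (∑ i, v i • x i) ∈ K := by
    rw [LinearMap.mem_ker, LinearMap.smul_apply, LinearMap.id_apply, Finset.smul_sum]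
    refine Eq.trans (Finset.sum_congr rfl fun i _ => ?_) ((mem_rel x).1 hw)
    rw [smul_smul, hv]
  -- replace `v` by a vector with a unit at `e a'` and zero on the rest of the range
  let v' : Fin n → R := fun i => if i = e a' then ↑u else if i ∈ Set.range e then 0 else v i
  have hK' : (∑ i, v' i • x i) ∈ K := by
    rw [LinearMap.mem_ker, LinearMap.smul_apply, LinearMap.id_apply, Finset.smul_sum]
    refine Eq.trans (Finset.sum_congr rfl fun i _ => ?_) ((mem_rel x).1 hw)
    rw [smul_smul]
    congr 1
    simp only [v']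
    split_ifs with h1 h2
    · rw [h1, hself, if_pos rfl]
    · obtain ⟨a, rfl⟩ := h2
      rw [hself, if_neg (fun hh => h1 (by rw [hh])), mul_zero]
    · exact (hv i).symm
  have h0 := congrArg K.mkQ (Finset.sum_erase_add Finset.univ (fun i => v' i • x i) (Finset.mem_univ (e a')))
  rw [map_add, map_smul, show K.mkQ (∑ i, v' i • x i) = 0 from (Submodule.Quotient.mk_eq_zero K).2 hK',
    show v' (e a') = ↑u from if_pos rfl] at h0
  replace h0 := eq_neg_of_add_eq_zero_right h0
  have : K.mkQ (x (e a')) = (↑u⁻¹ : R) • ((↑u : R) • K.mkQ (x (e a'))) := by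
    rw [smul_smul, Units.inv_mul, one_smul]
  rw [Function.comp_apply, SetLike.mem_coe, this, h0]
  refine Submodule.smul_mem _ _ (neg_mem ?_)
  rw [map_sum]
  refine Submodule.sum_mem _ fun i hi => ?_
  rw [map_smul]
  by_cases hir : i ∈ Set.range e
  · rw [show v' i = 0 from ((if_neg (Finset.ne_of_mem_erase hi)).trans (if_pos hir)), zero_smul]; exact zero_mem _
  · exact Submodule.smul_mem _ _ (Submodule.subset_span ⟨Fintype.equivFinOfCardEq hC ⟨i, hir⟩, by simp⟩)

/-- Killing the `a`-torsion turns `F_k = (a)` into `F_k = ⊤`. -/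
theorem quotient_eq_top [Module.Finite R M] {k : ℕ} {a : R} (hI : Fitt.ideal R M k = Ideal.span {a})
    (T : Submodule R M) (hT : ∀ m : M, a • m = 0 → m ∈ T) : Fitt.ideal R (M ⧸ T) k = ⊤ := by
  classical
  by_contra hne
  obtain ⟨q, hq, hle⟩ := Ideal.exists_le_maximal _ hne
  haveI := hq.isPrime
  let S := q.primeCompl
  obtain ⟨g, hg⟩ := quotient_generators (R := Localization S) (M := LocalizedModule S M) (k := k)
    (f := algebraMap R (Localization S) a) (by rw [ideal_localized, hI, Ideal.map_span, Set.image_singleton])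
  let π : LocalizedModule S M →ₗ[Localization S] LocalizedModule S (M ⧸ T) := LocalizedModule.map S T.mkQ
  have hπ : Function.Surjective π := LocalizedModule.map_surjective S T.mkQ T.mkQ_surjective
  let K := LinearMap.ker (algebraMap R (Localization S) a • (LinearMap.id : LocalizedModule S M →ₗ[Localization S] _))
  have hker : K ≤ LinearMap.ker π := by
    intro z hz
    rw [LinearMap.mem_ker, LinearMap.smul_apply, LinearMap.id_apply, algebraMap_smul] at hz
    induction z using LocalizedModule.induction_on with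
    | _ m s =>
      rw [LocalizedModule.smul'_mk] at hz
      obtain ⟨t, ht⟩ := LocalizedModule.mk_eq.1 (hz.trans (LocalizedModule.zero_mk 1).symm)
      simp only [smul_zero, one_smul] at ht
      have hmT : t • m ∈ T := hT _ ((smul_comm a t m).trans ht)
      rw [LinearMap.mem_ker, LocalizedModule.map_mk]
      refine (LocalizedModule.mk_eq.2 ⟨t, ?_⟩).trans (LocalizedModule.zero_mk 1)
      simp only [smul_zero, one_smul]
      exact (map_smul T.mkQ t.1 m).symm.trans ((Submodule.Quotient.mk_eq_zero T).2 hmT)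
  let π' := K.liftQ π hker
  have hπ' : Function.Surjective π' := fun y => by
    obtain ⟨z, rfl⟩ := hπ y; exact ⟨Submodule.Quotient.mk z, rfl⟩
  obtain ⟨s, hs, hsI⟩ := exists_mem_of_localized_generators S (π' ∘ g)
    (by rw [Set.range_comp, Submodule.span_image, hg, Submodule.map_top, LinearMap.range_eq_top.2 hπ'])
  exact hs (hle hsI)

end Groth.Agent.FittLib
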