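import Groth.Agent.FittLib.Rank
import Mathlib.LinearAlgebra.Matrix.Adjugate
import Mathlib.Algebra.Module.Projective

/-!
# A module with invertible zeroth Fitting ideal has a projective syzygy
-/

set_option autoImplicit false

noncomputable section

universe u v

namespace Groth.Agent.FittLib

variable {R : Type u} [CommRing R] {M : Type v} [AddCommGroup M] [Module R M] [Module.Finite R M]

/-- If `F_0(M) = (f)` with `f` a nonzerodivisor, then the relations of any generators form a projective module. -/
theorem projective_rel {f : R} (hf : f ∈ nonZeroDivisors R) (hF : Fitt.ideal R M 0 = Ideal.span {f})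
    {n : ℕ} (x : Fin n → M) (hx : Submodule.span R (Set.range x) = ⊤) : Module.Projective R (rel (R := R) x) := by
  classical
  have hI : I (rel (R := R) x) n = Ideal.span {f} := by
    rw [← hF, ideal_eq_F x hx, F, Fintype.card_fin, Nat.sub_zero]
  have hfI : f ∈ I (rel (R := R) x) n := hI.ge (Ideal.mem_span_singleton_self f)
  obtain ⟨D, hD, hfD⟩ := Submodule.mem_span_finite_of_mem_span hfI
  let D' := D.erase 0
  have hfD' : f ∈ Submodule.span R (D' : Set R) := by
    refine (Submodule.span_le.2 fun d hd => ?_) hfD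
    rcases eq_or_ne d 0 with rfl | h0
    · exact zero_mem _
    · exact Submodule.subset_span (Finset.mem_erase.2 ⟨h0, hd⟩)
  obtain ⟨c, -, hc⟩ := Submodule.mem_span_finset.1 hfD'
  have hD' : ∀ d : {d // d ∈ D'}, ∃ z : Fin n → (Fin n → R), ∃ e : Fin n → Fin n,
      (∀ b, z b ∈ rel (R := R) x) ∧ d.1 = (Matrix.of fun a b => z b (e a)).det :=
    fun d => hD (Finset.mem_of_mem_erase d.2)
  choose z e hz hd using hD'
  let A : {d // d ∈ D'} → Matrix (Fin n) (Fin n) R := fun d => Matrix.of fun a b => z d b (e d a)
  have he : ∀ d, Function.Surjective (e d) := fun d => by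
    refine Finite.surjective_of_injective fun a a' haa => ?_
    by_contra hne
    refine (Finset.mem_erase.1 d.2).1 ((hd d).trans (Matrix.det_zero_of_row_eq hne ?_))
    funext b
    simp [haa]
  let K := rel (R := R) x
  let L : K →ₗ[R] ({d // d ∈ D'} → Fin n → R) :=
    LinearMap.pi fun d => (A d).cramer ∘ₗ LinearMap.funLeft R R (e d) ∘ₗ K.subtype
  have hL : ∀ v d i, L v d i ∈ Ideal.span {f} := fun v d i => by
    rw [← hI]
    have h := det_mem_I (N := K) (Function.update (z d) i v.1) (e d) fun b => by
      rcases eq_or_ne b i with rfl | hne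
      · simpa using v.2
      · simpa [hne] using hz d b
    convert h using 1
    show ((A d).cramer (v.1 ∘ e d)) i = _
    rw [Matrix.cramer_apply]
    congr 1
    ext a b
    rcases eq_or_ne b i with rfl | hne
    · simp [A]
    · simp [A, hne]
  let μ : ({d // d ∈ D'} → Fin n → R) →ₗ[R] ({d // d ∈ D'} → Fin n → R) := f • LinearMap.id
  have hμ : Function.Injective μ := fun u w huw => funext fun d => funext fun i =>
    (mul_cancel_left_mem_nonZeroDivisors hf).1 (congrFun (congrFun huw d) i)
  let L' : K →ₗ[R] LinearMap.range μ := L.codRestrict _ fun v => by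
    choose q hq using fun d i => Ideal.mem_span_singleton'.1 (hL v d i)
    exact ⟨q, funext fun d => funext fun i => (mul_comm _ _).trans (hq d i)⟩
  let α : K →ₗ[R] ({d // d ∈ D'} → Fin n → R) := (LinearEquiv.ofInjective μ hμ).symm.toLinearMap ∘ₗ L'
  have hα : ∀ v d i, f * α v d i = L v d i := fun v d i => by
    have := congrArg Subtype.val ((LinearEquiv.ofInjective μ hμ).apply_symm_apply (L' v))
    exact congrFun (congrFun this d) i
  let β : ({d // d ∈ D'} → Fin n → R) →ₗ[R] K :=
    ∑ d : {d // d ∈ D'}, c d.1 • ((Fintype.linearCombination R fun b => (⟨z d b, hz d b⟩ : K)) ∘ₗ LinearMap.proj d)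
  refine Module.Projective.of_split α β (LinearMap.ext fun v => Subtype.ext (funext fun i => ?_))
  refine (mul_cancel_left_mem_nonZeroDivisors hf).1 ?_
  have hβ : (β (α v)).1 i = ∑ d : {d // d ∈ D'}, c d.1 * ∑ b, α v d b * z d b i := by
    simp [β, LinearMap.sum_apply, Fintype.linearCombination_apply, Finset.sum_apply]
  show f * (β (α v)).1 i = f * v.1 i
  rw [hβ, Finset.mul_sum]
  conv_rhs => rw [← hc]
  rw [Finset.sum_mul, ← Finset.sum_coe_sort D']
  refine Finset.sum_congr rfl fun d _ => ?_
  obtain ⟨a, rfl⟩ := he d i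
  have h := congrFun (Matrix.mulVec_cramer (A d) (v.1 ∘ e d)) a
  rw [Pi.smul_apply, Function.comp_apply, smul_eq_mul, ← hd d] at h
  rw [smul_eq_mul, ← mul_assoc, mul_comm f, mul_assoc, Finset.mul_sum, mul_assoc, ← h]
  refine congrArg _ (Finset.sum_congr rfl fun b _ => ?_)
  rw [← mul_assoc, hα]
  show L v d b * _ = _
  simp [A, L, mul_comm, LinearMap.funLeft]

end Groth.Agent.FittLib
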