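import Groth.Agent.FittLib.Basic
import Mathlib.RingTheory.Finiteness.Basic
import Mathlib.Algebra.Module.FinitePresentation
import Mathlib.LinearAlgebra.Matrix.Adjugate
import Mathlib.RingTheory.TensorProduct.Basic
import Mathlib.LinearAlgebra.TensorProduct.RightExactness
import Mathlib.LinearAlgebra.TensorProduct.Pi
import Mathlib.RingTheory.Spectrum.Prime.Basic
import Mathlib.RingTheory.Support

/-!
# Basic properties of Fitting ideals
-/

set_option autoImplicit false

noncomputable section

universe u v w

open scoped TensorProduct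

namespace Groth.Agent.FittLib

variable {R : Type u} [CommRing R] {M : Type v} [AddCommGroup M] [Module R M]

lemma mono_index [Module.Finite R M] {r r' : ℕ} (h : r ≤ r') : Fitt.ideal R M r ≤ Fitt.ideal R M r' := by
  obtain ⟨n, x, hx⟩ := Module.Finite.exists_fin (R := R) (M := M)
  rw [ideal_eq_F x hx, ideal_eq_F x hx]
  exact F_mono x h

lemma eq_top_of_le {ι : Type*} [Fintype ι] (x : ι → M) (hx : Submodule.span R (Set.range x) = ⊤) {r : ℕ}
    (h : Fintype.card ι ≤ r) : Fitt.ideal R M r = ⊤ := by
  rw [ideal_eq_F x hx, F_eq_top x h]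

lemma ideal_le_of_surjective [Module.Finite R M] {M' : Type w} [AddCommGroup M'] [Module R M']
    (f : M →ₗ[R] M') (hf : Function.Surjective f) (k : ℕ) : Fitt.ideal R M k ≤ Fitt.ideal R M' k := by
  obtain ⟨n, x, hx⟩ := Module.Finite.exists_fin (R := R) (M := M)
  rw [ideal_eq_F x hx, ideal_eq_F (f ∘ x)
    (by rw [Set.range_comp, Submodule.span_image, hx, Submodule.map_top, LinearMap.range_eq_top.2 hf])]
  refine I_mono (fun w hw => ?_) _
  rw [mem_rel] at hw ⊢
  rw [← map_zero f, ← hw, map_sum]
  simp

lemma ideal_congr [Module.Finite R M] {M' : Type w} [AddCommGroup M'] [Module R M'] (e : M ≃ₗ[R] M') (k : ℕ) :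
    Fitt.ideal R M k = Fitt.ideal R M' k := by
  haveI := Module.Finite.equiv e
  exact le_antisymm (ideal_le_of_surjective e.toLinearMap e.surjective k)
    (ideal_le_of_surjective e.symm.toLinearMap e.symm.surjective k)

lemma fg_of_finitePresentation [Module.FinitePresentation R M] (k : ℕ) : (Fitt.ideal R M k).FG := by
  classical
  obtain ⟨n, x, hx⟩ := Module.Finite.exists_fin (R := R) (M := M)
  rw [ideal_eq_F x hx, F]
  obtain ⟨S, hS⟩ := Module.FinitePresentation.fg_ker (Fintype.linearCombination R x)
    (by rw [← LinearMap.range_eq_top, Fintype.range_linearCombination, hx])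
  let D : (Fin (Fintype.card (Fin n) - k) → S) × (Fin (Fintype.card (Fin n) - k) → Fin n) → R :=
    fun p => (Matrix.of fun a b => (p.1 b).1 (p.2 a)).det
  refine ⟨Finset.univ.image D, le_antisymm (Ideal.span_le.2 ?_) ?_⟩
  · intro d hd
    simp only [Finset.coe_image, Set.mem_image] at hd
    obtain ⟨p, -, rfl⟩ := hd
    exact det_mem_I _ _ fun b => by
      show (p.1 b).1 ∈ LinearMap.ker _
      exact hS ▸ Submodule.subset_span (p.1 b).2
  · rw [show rel (R := R) x = Submodule.span R (S : Set (Fin n → R)) from hS.symm]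
    refine I_span_le _ _ _ fun z e hz => Ideal.subset_span ?_
    simp only [Finset.coe_image, Set.mem_image]
    exact ⟨(fun b => ⟨z b, hz b⟩, e), Finset.mem_coe.2 (Finset.mem_univ _), rfl⟩

theorem zero_le_annihilator [Module.Finite R M] : Fitt.ideal R M 0 ≤ Module.annihilator R M := by
  classical
  obtain ⟨n, x, hx⟩ := Module.Finite.exists_fin (R := R) (M := M)
  rw [ideal_eq_F x hx, F, Fintype.card_fin, Nat.sub_zero]
  refine Ideal.span_le.2 ?_
  rintro _ ⟨z, e, hz, rfl⟩
  rw [SetLike.mem_coe, Module.mem_annihilator]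
  intro m
  have hm : m ∈ Submodule.span R (Set.range x) := hx ▸ Submodule.mem_top
  suffices hc : ∀ c, (Matrix.of fun a b => z b (e a)).det • x c = 0 by
    induction hm using Submodule.span_induction with
    | mem m hm => obtain ⟨c, rfl⟩ := hm; exact hc c
    | zero => exact smul_zero _
    | add a b _ _ ha hb => rw [smul_add, ha, hb, add_zero]
    | smul r a _ ha => rw [smul_comm, ha, smul_zero]
  intro c
  by_cases he : Function.Injective e
  swap
  · rw [Function.not_injective_iff] at he
    obtain ⟨a, a', haa, hne⟩ := he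
    rw [Matrix.det_zero_of_row_eq hne (funext fun b => by simp [haa]), zero_smul]
  obtain ⟨j, rfl⟩ := (Finite.injective_iff_surjective.1 he) c
  set A : Matrix (Fin n) (Fin n) R := Matrix.of fun a b => z b (e a)
  have h0 : ∀ b, ∑ a, A a b • x (e a) = 0 := fun b => by
    have := (mem_rel x).1 (hz b)
    rwa [← (Equiv.ofBijective e ⟨he, Finite.injective_iff_surjective.1 he⟩).sum_comp] at this
  calc A.det • x (e j) = ∑ a, (A * A.adjugate) a j • x (e a) := by
        rw [Matrix.mul_adjugate]; simp [Matrix.one_apply]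
    _ = ∑ b, A.adjugate b j • ∑ a, A a b • x (e a) := by
        simp only [Matrix.mul_apply, Finset.sum_smul, Finset.smul_sum, smul_smul]
        rw [Finset.sum_comm]
        simp only [mul_comm]
    _ = 0 := by simp [h0]

theorem exists_pow_mem_of_mem_annihilator [Module.Finite R M] :
    ∃ n : ℕ, ∀ a ∈ Module.annihilator R M, a ^ n ∈ Fitt.ideal R M 0 := by
  classical
  obtain ⟨n, x, hx⟩ := Module.Finite.exists_fin (R := R) (M := M)
  refine ⟨n, fun a ha => ?_⟩
  rw [ideal_eq_F x hx, F, Fintype.card_fin, Nat.sub_zero]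
  have h := det_mem_I (N := rel (R := R) x) (fun b => Pi.single b a) id fun b => by
    rw [mem_rel, Finset.sum_eq_single b (fun c _ hc => by rw [Pi.single_eq_of_ne hc, zero_smul])
      (fun h => absurd (Finset.mem_univ b) h), Pi.single_eq_same]
    exact Module.mem_annihilator.1 ha (x b)
  have : (Matrix.of fun i j : Fin n => (Pi.single j a : Fin n → R) (id i)) = Matrix.diagonal fun _ => a := by
    ext i j
    rcases eq_or_ne i j with rfl | hne
    · simp
    · simp [Pi.single_eq_of_ne hne, hne]
  rw [this, Matrix.det_diagonal] at h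
  simpa using h

theorem zeroLocus_zero [Module.Finite R M] :
    PrimeSpectrum.zeroLocus (Fitt.ideal R M 0 : Set R) = Module.support R M := by
  rw [Module.support_eq_zeroLocus]
  refine le_antisymm (fun p hp a ha => ?_) (PrimeSpectrum.zeroLocus_anti_mono zero_le_annihilator)
  obtain ⟨n, hn⟩ := exists_pow_mem_of_mem_annihilator (R := R) (M := M)
  exact p.isPrime.mem_of_pow_mem n (hp (hn a ha))

theorem zero_quotient (J : Ideal R) : Fitt.ideal R (R ⧸ J) 0 = J := by
  refine le_antisymm (zero_le_annihilator.trans Ideal.annihilator_quotient.le) fun a ha => ?_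
  have hx : Submodule.span R (Set.range fun _ : Fin 1 => (1 : R ⧸ J)) = ⊤ := by
    rw [Set.range_const, eq_top_iff]
    intro q _
    obtain ⟨r, rfl⟩ := Ideal.Quotient.mk_surjective q
    exact Submodule.mem_span_singleton.2 ⟨r, (Algebra.smul_def r (1 : R ⧸ J)).trans (mul_one _)⟩
  rw [ideal_eq_F _ hx, F, Fintype.card_fin, Nat.sub_zero]
  have h := det_mem_I (N := rel (R := R) fun _ : Fin 1 => (1 : R ⧸ J)) (fun _ => fun _ => a) id fun _ => by
    rw [mem_rel, Fin.sum_univ_one, Algebra.smul_def, mul_one]
    exact Ideal.Quotient.eq_zero_iff_mem.2 ha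
  rwa [Matrix.det_fin_one] at h

/-- Relations after base change. -/
theorem baseChange {S : Type*} [CommRing S] [Algebra R S] [Module.Finite R M] (k : ℕ) :
    Fitt.ideal S (S ⊗[R] M) k = (Fitt.ideal R M k).map (algebraMap R S) := by
  classical
  obtain ⟨n, x, hx⟩ := Module.Finite.exists_fin (R := R) (M := M)
  let π := Fintype.linearCombination R x
  have hπ : Function.Surjective π := by rw [← LinearMap.range_eq_top, Fintype.range_linearCombination, hx]
  let y : Fin n → S ⊗[R] M := fun i => 1 ⊗ₜ x i
  let ψ := TensorProduct.piScalarRight R S S (Fin n)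
  have hπy : ∀ w : S ⊗[R] (Fin n → R), π.lTensor S w = ∑ i, ψ w i • y i := fun w => by
    induction w using TensorProduct.induction_on with
    | zero => simp
    | add a b ha hb => simp [map_add, ha, hb, add_smul, Finset.sum_add_distrib]
    | tmul s w =>
      simp only [π, LinearMap.lTensor_tmul, Fintype.linearCombination_apply, TensorProduct.tmul_sum,
        TensorProduct.tmul_smul, ψ, TensorProduct.piScalarRight_apply, TensorProduct.piScalarRightHom_tmul, y,
        TensorProduct.smul_tmul']
      simp
  have hy : Submodule.span S (Set.range y) = ⊤ := eq_top_iff.2 fun z _ => by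
    obtain ⟨w, rfl⟩ := LinearMap.lTensor_surjective S hπ z
    rw [hπy]
    exact Submodule.sum_mem _ fun i _ => Submodule.smul_mem _ _ (Submodule.subset_span ⟨i, rfl⟩)
  have hrel : rel (R := S) y =
      Submodule.span S ((fun w : Fin n → R => algebraMap R S ∘ w) '' (rel (R := R) x : Set (Fin n → R))) := by
    refine le_antisymm (fun v hv => ?_) (Submodule.span_le.2 ?_)
    · obtain ⟨w, rfl⟩ := ψ.surjective v
      have h0 : π.lTensor S w = 0 := (hπy w).trans ((mem_rel y).1 hv)
      obtain ⟨u, rfl⟩ := (lTensor_exact S π.exact_subtype_ker_map hπ w).1 h0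
      induction u using TensorProduct.induction_on with
      | zero => simp
      | add a b ha hb =>
        rw [map_add, map_add]
        exact add_mem (ha (by rw [mem_rel, ← hπy]; exact (lTensor_exact S π.exact_subtype_ker_map hπ).apply_apply_eq_zero a)
            ((lTensor_exact S π.exact_subtype_ker_map hπ).apply_apply_eq_zero a))
          (hb (by rw [mem_rel, ← hπy]; exact (lTensor_exact S π.exact_subtype_ker_map hπ).apply_apply_eq_zero b)
            ((lTensor_exact S π.exact_subtype_ker_map hπ).apply_apply_eq_zero b))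
      | tmul s u =>
        have : ψ ((LinearMap.ker π).subtype.lTensor S (s ⊗ₜ u)) = s • (algebraMap R S ∘ u.1) := by
          ext i
          simp [ψ, TensorProduct.piScalarRight_apply, Algebra.smul_def, mul_comm]
        rw [this]
        exact Submodule.smul_mem _ _ (Submodule.subset_span ⟨u.1, u.2, rfl⟩)
    · rintro _ ⟨w, hw, rfl⟩
      rw [SetLike.mem_coe, mem_rel]
      have := (mem_rel x).1 hw
      simp only [y, Function.comp_apply, algebraMap_smul, ← TensorProduct.tmul_smul, ← TensorProduct.tmul_sum, this,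
        TensorProduct.tmul_zero]
  rw [ideal_eq_F y hy, ideal_eq_F x hx, F, F]
  refine le_antisymm ?_ (Ideal.map_le_iff_le_comap.2 (Ideal.span_le.2 ?_))
  · rw [hrel]
    refine I_span_le _ _ _ fun z e hz => ?_
    choose w hw hwz using hz
    have : (Matrix.of fun a b => z b (e a)) = (Matrix.of fun a b => w b (e a)).map (algebraMap R S) := by
      ext a b; simp [← hwz]
    rw [this, ← RingHom.mapMatrix_apply, ← RingHom.map_det]
    exact Ideal.mem_map_of_mem _ (det_mem_I w e hw)
  · rintro _ ⟨z, e, hz, rfl⟩
    rw [SetLike.mem_coe, Ideal.mem_comap, RingHom.map_det]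
    exact det_mem_I (N := rel (R := S) y) (fun b => algebraMap R S ∘ z b) e fun b =>
      hrel ▸ Submodule.subset_span ⟨z b, hz b, rfl⟩

/-- The product formula. -/
theorem ideal_prod [Module.Finite R M] {M' : Type w} [AddCommGroup M'] [Module R M'] [Module.Finite R M'] (l : ℕ) :
    Fitt.ideal R (M × M') l = ∑ k ∈ Finset.range (l + 1), Fitt.ideal R M k * Fitt.ideal R M' (l - k) := by
  classical
  obtain ⟨n, x, hx⟩ := Module.Finite.exists_fin (R := R) (M := M)
  obtain ⟨n', y, hy⟩ := Module.Finite.exists_fin (R := R) (M := M')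
  let p : Fin n ⊕ Fin n' → M × M' := Sum.elim (fun i => (x i, 0)) fun j => (0, y j)
  have hp : Submodule.span R (Set.range p) = ⊤ := by
    rw [eq_top_iff]
    rintro ⟨a, b⟩ -
    obtain ⟨c, hc⟩ := (Submodule.mem_span_range_iff_exists_fun R).1 (hx ▸ Submodule.mem_top : a ∈ _)
    obtain ⟨d, hd⟩ := (Submodule.mem_span_range_iff_exists_fun R).1 (hy ▸ Submodule.mem_top : b ∈ _)
    refine (Submodule.mem_span_range_iff_exists_fun R).2 ⟨Sum.elim c d, ?_⟩
    simp [p, Fintype.sum_sum_type, Prod.ext_iff, Prod.fst_sum, Prod.snd_sum, hc, hd]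
  have hrel : rel (R := R) p = Submodule.span R
      ((fun w => Sum.elim w (0 : Fin n' → R)) '' (rel (R := R) x : Set (Fin n → R)) ∪
        (fun w => Sum.elim (0 : Fin n → R) w) '' (rel (R := R) y : Set (Fin n' → R))) := by
    refine le_antisymm (fun w hw => ?_) (Submodule.span_le.2 ?_)
    · rw [mem_rel] at hw
      simp only [p, Fintype.sum_sum_type, Sum.elim_inl, Sum.elim_inr, Prod.ext_iff, Prod.fst_sum, Prod.snd_sum,
        Prod.fst_add, Prod.snd_add, Prod.smul_fst, Prod.smul_snd, smul_zero, Finset.sum_const_zero, add_zero,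
        zero_add, Prod.fst_zero, Prod.snd_zero] at hw
      have hw' : w = Sum.elim (w ∘ Sum.inl) (0 : Fin n' → R) + Sum.elim (0 : Fin n → R) (w ∘ Sum.inr) := by
        ext o; rcases o with i | j <;> simp
      rw [hw']
      exact add_mem (Submodule.subset_span (Or.inl ⟨_, (mem_rel x).2 hw.1, rfl⟩))
        (Submodule.subset_span (Or.inr ⟨_, (mem_rel y).2 hw.2, rfl⟩))
    · rintro _ (⟨w, hw, rfl⟩ | ⟨w, hw, rfl⟩)
      · rw [SetLike.mem_coe, mem_rel] at hw
        rw [SetLike.mem_coe, mem_rel]
        simp [p, Fintype.sum_sum_type, Prod.ext_iff, Prod.fst_sum, Prod.snd_sum, hw]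
      · rw [SetLike.mem_coe, mem_rel] at hw
        rw [SetLike.mem_coe, mem_rel]
        simp [p, Fintype.sum_sum_type, Prod.ext_iff, Prod.fst_sum, Prod.snd_sum, hw]
  have hmemx : ∀ w ∈ rel (R := R) x, Sum.elim w (0 : Fin n' → R) ∈ rel (R := R) p := fun w hw => by
    rw [hrel]; exact Submodule.subset_span (Or.inl ⟨w, hw, rfl⟩)
  have hmemy : ∀ w ∈ rel (R := R) y, Sum.elim (0 : Fin n → R) w ∈ rel (R := R) p := fun w hw => by
    rw [hrel]; exact Submodule.subset_span (Or.inr ⟨w, hw, rfl⟩)
  refine le_antisymm ?_ ?_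
  · rw [ideal_eq_F p hp, F, hrel, Fintype.card_sum, Fintype.card_fin, Fintype.card_fin]
    refine I_span_le _ _ _ fun z e hz => ?_
    generalize hm : n + n' - l = m at z e hz
    by_cases he : Function.Injective e
    swap
    · rw [Function.not_injective_iff] at he
      obtain ⟨a, a', haa, hne⟩ := he
      rw [Matrix.det_zero_of_row_eq hne (funext fun b => by simp [haa])]
      exact zero_mem _
    let u : Fin m → Fin n → R := fun b => z b ∘ Sum.inl
    let v : Fin m → Fin n' → R := fun b => z b ∘ Sum.inr
    let S : Fin m → Prop := fun b => ∃ w ∈ rel (R := R) x, z b = Sum.elim w 0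
    have hS : ∀ b, S b → v b = 0 ∧ u b ∈ rel (R := R) x := fun b ⟨w, hw, hb⟩ => by
      simp only [u, v, hb, Sum.elim_comp_inl, Sum.elim_comp_inr, true_and]; exact hw
    have hS' : ∀ b, ¬ S b → u b = 0 ∧ v b ∈ rel (R := R) y := fun b hb => by
      rcases hz b with ⟨w, hw, h⟩ | ⟨w, hw, h⟩
      · exact absurd ⟨w, hw, h.symm⟩ hb
      · simp only [u, v, ← h, Sum.elim_comp_inl, Sum.elim_comp_inr, true_and]; exact hw
    let L : Fin m → Prop := fun a => (e a).isLeft = true
    have hzero : ∀ a b, ¬ (L a ↔ S b) → z b (e a) = 0 := fun a b hab => by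
      by_cases hb : S b
      · rcases hea : e a with i | j
        · exact absurd ⟨fun _ => hb, fun _ => by simp [L, hea]⟩ hab
        · exact congrFun (hS b hb).1 j
      · rcases hea : e a with i | j
        · exact congrFun (hS' b hb).1 i
        · exact absurd ⟨fun h => by simp [L, hea] at h, fun h => absurd h hb⟩ hab
    let α := {a : Fin m // L a}
    let β := {a : Fin m // ¬ L a}
    let γ := {b : Fin m // S b}
    let δ := {b : Fin m // ¬ S b}
    by_cases hσ : ∃ σ : Equiv.Perm (Fin m), ∀ b, L (σ b) ↔ S b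
    swap
    · have h0 : (Matrix.of fun a b => z b (e a)).det = 0 := by
        rw [Matrix.det_apply']
        refine Finset.sum_eq_zero fun σ _ => ?_
        obtain ⟨b, hb⟩ := not_forall.1 (fun h => hσ ⟨σ, h⟩)
        rw [Finset.prod_eq_zero (Finset.mem_univ b) (by simpa using hzero _ _ hb), mul_zero]
      rw [h0]
      exact zero_mem _
    obtain ⟨σ, hσ⟩ := hσ
    -- after permuting the rows the matrix is block diagonal
    let c := Fintype.card γ
    let d := Fintype.card δ
    let g := (Fintype.equivFin γ).symm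
    let h := (Fintype.equivFin δ).symm
    have hl : ∀ i : Fin c, ∃ j : Fin n, e (σ (g i).1) = Sum.inl j := fun i => by
      obtain ⟨j, hj⟩ := Sum.isLeft_iff.1 ((hσ _).2 (g i).2)
      exact ⟨j, hj⟩
    have hr : ∀ i : Fin d, ∃ j : Fin n', e (σ (h i).1) = Sum.inr j := fun i => by
      rcases hea : e (σ (h i).1) with j | j
      · exact absurd ((hσ _).1 (by simp [L, hea])) (h i).2
      · exact ⟨j, rfl⟩
    choose el hel using hl
    choose er her using hr
    have hcn : c ≤ n := by
      have : Function.Injective el := fun i j hij => g.injective (Subtype.ext (σ.injective (he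
        ((hel i).trans ((congrArg Sum.inl hij).trans (hel j).symm)))))
      simpa using Fintype.card_le_of_injective el this
    have hdn : d ≤ n' := by
      have : Function.Injective er := fun i j hij => h.injective (Subtype.ext (σ.injective (he
        ((her i).trans ((congrArg Sum.inr hij).trans (her j).symm)))))
      simpa using Fintype.card_le_of_injective er this
    let κ : Fin c ⊕ Fin d ≃ Fin m := (Equiv.sumCongr g h).trans (Equiv.sumCompl S)
    have hκl : ∀ i, κ (Sum.inl i) = (g i).1 := fun i => rfl
    have hκr : ∀ i, κ (Sum.inr i) = (h i).1 := fun i => rfl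
    have hcd : c + d = m := by simpa using Fintype.card_congr κ
    have hblock : (Matrix.of fun a b => z b (e (σ a))).submatrix κ κ =
        Matrix.fromBlocks (Matrix.of fun i j => u (g j).1 (el i)) 0 0 (Matrix.of fun i j => v (h j).1 (er i)) := by
      ext s t
      rcases s with i | i <;> rcases t with j | j
      · simp [hκl, u, hel]
      · simpa [hκl, hκr] using hzero _ _ (fun H => (h j).2 (H.1 ((hσ _).2 (g i).2)))
      · simpa [hκl, hκr] using hzero _ _ (fun H => (h i).2 ((hσ _).1 (H.2 (g j).2)))
      · simp [hκr, v, her]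
    have hdet : (Matrix.of fun i j => u (g j).1 (el i)).det * (Matrix.of fun i j => v (h j).1 (er i)).det =
        Equiv.Perm.sign σ * (Matrix.of fun a b => z b (e a)).det := by
      rw [← Matrix.det_fromBlocks_zero₂₁ _ 0 _, ← hblock, Matrix.det_submatrix_equiv_self, ← Matrix.det_permute]
      rfl
    have hmem : (Matrix.of fun i j => u (g j).1 (el i)).det * (Matrix.of fun i j => v (h j).1 (er i)).det ∈
        ∑ k ∈ Finset.range (l + 1), Fitt.ideal R M k * Fitt.ideal R M' (l - k) := by
      refine SetLike.le_def.1 (Finset.single_le_sum (f := fun k => Fitt.ideal R M k * Fitt.ideal R M' (l - k))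
        (fun _ _ => bot_le) (Finset.mem_range.2 (show n - c < l + 1 by omega))) (Ideal.mul_mem_mul ?_ ?_)
      · rw [ideal_eq_F x hx, F, Fintype.card_fin]
        exact I_antitone _ (by omega) (det_mem_I (fun j => u (g j).1) el fun j => (hS _ (g j).2).2)
      · rw [ideal_eq_F y hy, F, Fintype.card_fin]
        exact I_antitone _ (by omega) (det_mem_I (fun j => v (h j).1) er fun j => (hS' _ (h j).2).2)
    rw [hdet] at hmem
    rcases Int.units_eq_one_or (Equiv.Perm.sign σ) with hs | hs <;> rw [hs] at hmem <;> simpa using hmem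
  · rw [Ideal.sum_eq_sup, Finset.sup_le_iff]
    intro k hk
    rw [Finset.mem_range] at hk
    rw [ideal_eq_F x hx, ideal_eq_F y hy, ideal_eq_F p hp, F, F, F, I, I, Ideal.span_mul_span', Fintype.card_fin,
      Fintype.card_fin, Fintype.card_sum, Fintype.card_fin, Fintype.card_fin, Ideal.span_le]
    rintro _ ⟨_, ⟨z₁, e₁, hz₁, rfl⟩, _, ⟨z₂, e₂, hz₂, rfl⟩, rfl⟩
    let q := finSumFinEquiv (m := n - k) (n := n' - (l - k))
    refine I_antitone _ (show n + n' - l ≤ (n - k) + (n' - (l - k)) by omega) ?_
    have hd := det_mem_I (N := rel (R := R) p)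
      (fun b => Sum.elim (fun j => Sum.elim (z₁ j) 0) (fun j => Sum.elim 0 (z₂ j)) (q.symm b))
      (fun a => Sum.map e₁ e₂ (q.symm a)) (fun b => by
        rcases q.symm b with j | j
        · exact hmemx _ (hz₁ j)
        · exact hmemy _ (hz₂ j))
    rw [← Matrix.det_submatrix_equiv_self q] at hd
    convert hd using 1
    show (Matrix.of fun a b => z₁ b (e₁ a)).det * (Matrix.of fun a b => z₂ b (e₂ a)).det = _
    rw [← Matrix.det_fromBlocks_zero₂₁ _ 0 _]
    congr 1
    ext s t
    rcases s with i | i <;> rcases t with j | j <;> simp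

end Groth.Agent.FittLib
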