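import Groth.Agent.FittLib.Local
import Mathlib.RingTheory.LocalRing.Module
import Mathlib.RingTheory.Flat.Localization
import Mathlib.Algebra.Module.Torsion.Basic
import Mathlib.RingTheory.Spectrum.Prime.FreeLocus

/-!
# Fitting ideals of modules of constant rank
-/

set_option autoImplicit false

noncomputable section

universe u v

namespace Groth.Agent.FittLib

variable {R : Type u} [CommRing R] {M : Type v} [AddCommGroup M] [Module R M] [Module.Finite R M]

/-- A free localization of rank `r` kills the lower Fitting ideals. -/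
lemma map_eq_bot_of_free (S : Submonoid R) [Nontrivial (Localization S)]
    [Module.Free (Localization S) (LocalizedModule S M)] {r k : ℕ}
    (hr : Module.finrank (Localization S) (LocalizedModule S M) = r) (hk : k < r) :
    (Fitt.ideal R M k).map (algebraMap R (Localization S)) = ⊥ := by
  let b := Module.finBasisOfFinrankEq (Localization S) (LocalizedModule S M) hr
  rw [← ideal_localized, ideal_eq_F b b.span_eq,
    F_of_rel_eq_bot _ (rel_eq_bot _ b.linearIndependent) (by simpa using hk)]

/-- Vanishing away from an element. -/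
lemma exists_pow_mul_eq_zero (a x : R)
    (h : ∀ (q : Ideal R) [q.IsPrime], a ∉ q → ∃ s ∉ q, s * x = 0) : ∃ n : ℕ, a ^ n * x = 0 := by
  have : a ∈ (Ideal.torsionOf R R x).radical := by
    rw [Ideal.radical_eq_sInf, Submodule.mem_sInf]
    rintro q ⟨hle, hq⟩
    by_contra haq
    haveI := hq
    obtain ⟨s, hs, hsx⟩ := h q haq
    exact hs (hle ((Ideal.mem_torsionOf_iff x s).2 hsx))
  obtain ⟨n, hn⟩ := this
  exact ⟨n, (Ideal.mem_torsionOf_iff x _).1 hn⟩

lemma exists_mul_eq_zero_of_free (q : Ideal R) [q.IsPrime]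
    [Module.Free (Localization.AtPrime q) (LocalizedModule q.primeCompl M)] {r k : ℕ}
    (hr : Module.finrank (Localization.AtPrime q) (LocalizedModule q.primeCompl M) = r) (hk : k < r)
    {x : R} (hx : x ∈ Fitt.ideal R M k) : ∃ s ∉ q, s * x = 0 := by
  have h := Ideal.mem_map_of_mem (algebraMap R (Localization.AtPrime q)) hx
  rw [map_eq_bot_of_free q.primeCompl hr hk, Ideal.mem_bot, IsLocalization.map_eq_zero_iff q.primeCompl] at h
  obtain ⟨s, hs⟩ := h
  exact ⟨s.1, s.2, hs⟩

/-- Projective modules of constant rank have vanishing lower Fitting ideals. -/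
lemma eq_bot_of_rankAtStalk [Module.Projective R M] {r k : ℕ}
    (hr : ∀ p : PrimeSpectrum R, Module.rankAtStalk M p = r) (hk : k < r) : Fitt.ideal R M k = ⊥ := by
  refine eq_bot_iff.2 fun x hx => ?_
  obtain ⟨n, hn⟩ := exists_pow_mul_eq_zero 1 x fun q _ _ => by
    haveI : Module.Free (Localization.AtPrime q) (LocalizedModule q.primeCompl M) := Module.free_of_flat_of_isLocalRing
    exact exists_mul_eq_zero_of_free q (hr ⟨q, ‹_›⟩) hk hx
  simpa using hn

/-- The `a`-torsion quotient kills a Fitting ideal which vanishes away from `a`. -/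
theorem quotient_eq_bot {a : R} (ha : ∀ x : R, a * x = 0 → x = 0) {k : ℕ}
    (hlow : ∀ (q : Ideal R) [q.IsPrime], a ∉ q → ∀ x ∈ Fitt.ideal R M k, ∃ s ∉ q, s * x = 0)
    (T : Submodule R M) (hT : ∀ m ∈ T, ∃ n : ℕ, a ^ n • m = 0) : Fitt.ideal R (M ⧸ T) k = ⊥ := by
  refine eq_bot_iff.2 fun x hx => ?_
  obtain ⟨n, hn⟩ := exists_pow_mul_eq_zero a x fun q _ haq => by
    let S := q.primeCompl
    let π : LocalizedModule S M →ₗ[Localization S] LocalizedModule S (M ⧸ T) := LocalizedModule.map S T.mkQ
    have hπ : Function.Bijective π := by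
      refine ⟨(injective_iff_map_eq_zero π).2 fun z hz => ?_, LocalizedModule.map_surjective S T.mkQ T.mkQ_surjective⟩
      induction z using LocalizedModule.induction_on with
      | _ m s =>
        rw [LocalizedModule.map_mk] at hz
        obtain ⟨t, ht⟩ := LocalizedModule.mk_eq.1 (hz.trans (LocalizedModule.zero_mk 1).symm)
        simp only [smul_zero, one_smul] at ht
        obtain ⟨j, hj⟩ := hT (t.1 • m) ((Submodule.Quotient.mk_eq_zero T).1 ((map_smul T.mkQ t.1 m).trans ht))
        refine (LocalizedModule.mk_eq.2 ⟨⟨a ^ j, fun h => haq (Ideal.IsPrime.mem_of_pow_mem ‹_› j h)⟩ * t, ?_⟩).trans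
          (LocalizedModule.zero_mk 1)
        simp only [smul_zero, one_smul]
        exact (mul_smul _ _ _).trans hj
    have h := Ideal.mem_map_of_mem (algebraMap R (Localization S)) hx
    rw [← ideal_localized, ← ideal_congr (LinearEquiv.ofBijective π hπ), ideal_localized] at h
    have hle : (Fitt.ideal R M k).map (algebraMap R (Localization S)) ≤ ⊥ := Ideal.map_le_iff_le_comap.2 fun y hy => by
      obtain ⟨s, hs, hsy⟩ := hlow q haq y hy
      exact (IsLocalization.map_eq_zero_iff S _ y).2 ⟨⟨s, hs⟩, hsy⟩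
    obtain ⟨s, hs⟩ := (IsLocalization.map_eq_zero_iff S _ x).1 (hle h)
    exact ⟨s.1, s.2, hs⟩
  induction n with
  | zero => simpa using hn
  | succ n ih => exact ih (ha _ (by rw [← mul_assoc, ← pow_succ']; exact hn))

/-- An element of a Fitting ideal is already in that of a finitely presented cover. -/
theorem exists_finitePresentation_cover {k : ℕ} {c : R} (hc : c ∈ Fitt.ideal R M k) :
    ∃ (n : ℕ) (N : Submodule R (Fin n → R)) (π : ((Fin n → R) ⧸ N) →ₗ[R] M), N.FG ∧ Function.Surjective π ∧
      c ∈ Fitt.ideal R ((Fin n → R) ⧸ N) k := by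
  classical
  obtain ⟨n, x, hx⟩ := Module.Finite.exists_fin (R := R) (M := M)
  rw [ideal_eq_F x hx, F, Fintype.card_fin, I] at hc
  obtain ⟨D, hD, hcD⟩ := Submodule.mem_span_finite_of_mem_span hc
  have hD' : ∀ d : {d // d ∈ D}, ∃ z : Fin (n - k) → (Fin n → R), ∃ e : Fin (n - k) → Fin n,
      (∀ b, z b ∈ rel (R := R) x) ∧ d.1 = (Matrix.of fun a b => z b (e a)).det := fun d => hD d.2
  choose z e hz hd using hD'
  let g : Fin n → (Fin n → R) := fun i => Pi.single i 1
  let N : Submodule R (Fin n → R) := Submodule.span R (Set.range fun p : {d // d ∈ D} × Fin (n - k) => z p.1 p.2)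
  have hN : N ≤ rel (R := R) x := Submodule.span_le.2 (by rintro _ ⟨p, rfl⟩; exact hz p.1 p.2)
  let π : ((Fin n → R) ⧸ N) →ₗ[R] M := N.liftQ (Fintype.linearCombination R x) hN
  let y : Fin n → (Fin n → R) ⧸ N := fun i => N.mkQ (g i)
  have hy : Submodule.span R (Set.range y) = ⊤ := by
    rw [show y = N.mkQ ∘ g from rfl, Set.range_comp, Submodule.span_image,
      show g = ⇑(Pi.basisFun R (Fin n)) by funext i; simp [g], (Pi.basisFun R (Fin n)).span_eq, Submodule.map_top,
      Submodule.range_mkQ]
  refine ⟨n, N, π, Submodule.fg_span (Set.finite_range _), fun m => ?_, ?_⟩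
  · have : m ∈ LinearMap.range (Fintype.linearCombination R x) := by
      rw [Fintype.range_linearCombination, hx]; trivial
    obtain ⟨w, rfl⟩ := this
    exact ⟨N.mkQ w, rfl⟩
  · rw [ideal_eq_F y hy, F, Fintype.card_fin]
    refine Submodule.span_le.2 (fun d hd' => ?_) hcD
    rw [show d = _ from hd ⟨d, hd'⟩]
    refine det_mem_I (N := rel (R := R) y) _ _ fun b => ?_
    rw [mem_rel, show y = fun i => N.mkQ (g i) from rfl]
    simp only [← map_smul, ← map_sum, g, ← pi_eq_sum_univ' (z ⟨d, hd'⟩ b)]
    exact (Submodule.Quotient.mk_eq_zero N).2 (Submodule.subset_span ⟨(⟨d, hd'⟩, b), rfl⟩)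

end Groth.Agent.FittLib
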